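import Cfsg.Agent.H485.NB.Klein
import Cfsg.Agent.H997.OutHe2

/-!
# He has no bad elements of order 3 (helper485, for S3877)
-/

set_option autoImplicit false

namespace Cfsg.Agent.H485.NB

open Subgroup Cfsg Cfsg.Agent.H470

theorem card_centralizer_conj {X : Type*} [Group X] (g t : X) :
    Nat.card ↥(centralizer ({g * t * g⁻¹} : Set X)) = Nat.card ↥(centralizer ({t} : Set X)) := by
  have h1 := Cfsg.Agent.CTwoTab.map_centralizer_singleton (MulAut.conj g) t
  rw [MulAut.conj_apply] at h1
  rw [← h1, Subgroup.card_map_of_injective (MulAut.conj g).injective]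

namespace HeRow

open Cfsg.Agent.KFacts.He.Lv Cfsg.Agent.KFacts.He.TwoACent

theorem simple : IsSimpleGroup Spor.He := Cfsg.Agent.KFacts.He.Cent.simpleHe

instance finite_He : Finite Spor.He := Cfsg.Agent.KFacts.He.Hyp.finHe

theorem not_dvd_cent {t : Spor.He} (ht : t * t = 1) (h1 : t ≠ 1) : ¬ 3 ^ (2 + 1) ∣ Nat.card ↥(centralizer ({t} : Set Spor.He)) := by
  rcases Cfsg.Agent.KFacts.He.Classes.two_classes_a ht h1 with ⟨g, hg⟩ | ⟨g, hg⟩
  · rw [← hg, card_centralizer_conj, Cfsg.Agent.KFacts.He.Classes.card_centralizer]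
    norm_num
  · rw [← hg, card_centralizer_conj]
    intro h2
    have h3 := h2.trans Cfsg.Agent.H997.OutHe.card_cent_a
    norm_num at h3

theorem noBad : NoBad 3 Spor.He := by
  have hp3 : Fact (Nat.Prime 3) := ⟨Nat.prime_three⟩
  have hs := simple
  obtain ⟨P⟩ : Nonempty (Sylow 3 ↥L) := inferInstance
  let E : Subgroup Spor.He := (P : Subgroup ↥L).map L.subtype
  have hEL : E ≤ L := by
    rintro _ ⟨x, -, rfl⟩
    exact x.2
  have hEc : Nat.card E = 3 ^ 2 := by
    rw [Subgroup.card_map_of_injective L.subtype_injective, P.card_eq_multiplicity, Cfsg.Agent.CTwoTab.He.card_L]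
    congr 1
    have : (4 * 20160 : ℕ) = 3 ^ 2 * 8960 := by norm_num
    rw [this, Nat.factorization_mul (by norm_num) (by norm_num), Nat.Prime.factorization_pow Nat.prime_three]
    simp only [Finsupp.coe_add, Pi.add_apply, Finsupp.single_eq_same]
    rw [Nat.factorization_eq_zero_of_not_dvd (by norm_num)]
  have hE : IsPGroup 3 E := IsPGroup.of_card hEc
  have hcomm : ∀ t : Spor.He, (∀ x ∈ L, x * t = t * x) → E ⊓ centralizer ({t} : Set Spor.He) = E := by
    intro t ht
    rw [inf_eq_left]
    intro x hx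
    exact mem_centralizer_singleton_iff.2 (ht x (hEL hx))
  have hLa : ∀ x ∈ L, x * gn .a = gn .a * x := fun x hx => L_comm_a hx
  have hLv : ∀ x ∈ L, x * v = v * x := fun x hx => L_comm_v hx
  have hLav : ∀ x ∈ L, x * (gn .a * v) = gn .a * v * x := fun x hx => by
    rw [← mul_assoc, hLa x hx, mul_assoc, hLv x hx, mul_assoc]
  have hav : gn .a * v = v * gn .a := (hLa v v_mem_L).symm
  have hav1 : gn .a * v ≠ 1 := by
    intro h
    apply v_ne_a
    have h1 : v = (gn .a)⁻¹ := eq_inv_of_mul_eq_one_right h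
    rw [h1, inv_eq_of_mul_eq_one_left (gn_mul_self _)]
  have hav2 : gn .a * v * (gn .a * v) = 1 := by
    calc gn .a * v * (gn .a * v) = gn .a * (v * gn .a) * v := by group
      _ = (gn .a * gn .a) * (v * v) := by rw [← hav]; group
      _ = 1 := by rw [gn_mul_self, v_mul_self, one_mul]
  have hfull : ∀ t : Spor.He, t * t = 1 → t ≠ 1 → (∀ x ∈ L, x * t = t * x) → Full 3 E t := by
    intro t ht h1 hL
    refine Full.of_card (k := 2) ?_ (not_dvd_cent ht h1)
    rw [hcomm t hL, hEc]
  have hconj : ∀ t : Spor.He, (∀ x ∈ L, x * t = t * x) → ∀ x ∈ E, t * x * t⁻¹ ∈ E := by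
    intro t ht x hx
    rw [← ht x (hEL hx), mul_inv_cancel_right]
    exact hx
  have hnt : normalizer (E : Set Spor.He) ≠ ⊤ := by
    intro h
    rw [normalizer_eq_top_iff] at h
    rcases h.eq_bot_or_eq_top with h1 | h1
    · rw [h1, card_bot] at hEc
      norm_num at hEc
    · rw [h1, card_top, Cfsg.Agent.KFacts.He.Classes.card_he] at hEc
      norm_num at hEc
  refine noBad_of_klein (by norm_num) hE hnt ?_ (gn_mul_self .a) v_mul_self hav (hconj _ hLa) (hconj _ hLv)
    (hfull _ (gn_mul_self .a) a_ne_one hLa) (hfull _ v_mul_self v_ne_one hLv) (hfull _ hav2 hav1 hLav) ?_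
  · refine not_dvd_index_of_card hEc ?_
    rw [Cfsg.Agent.KFacts.He.Classes.card_he]
    norm_num
  · intro x hx hb
    have hc : center Spor.He = ⊥ := by
      rcases hs.eq_bot_or_eq_top_of_normal (center Spor.He) inferInstance with h | h
      · exact h
      · exfalso
        have h2 : centralizer ({gn .a} : Set Spor.He) = ⊤ := by
          rw [eq_top_iff]
          intro y _
          have h3 : y ∈ center Spor.He := by rw [h]; exact mem_top y
          exact mem_centralizer_singleton_iff.2 (mem_center_iff.1 h3 _).symm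
        have h4 := Cfsg.Agent.H997.OutHe.card_cent_a
        rw [h2, card_top, Cfsg.Agent.KFacts.He.Classes.card_he] at h4
        norm_num at h4
    have h1 := hb.odd_centralizer (by norm_num) hc Cfsg.Agent.CTwoTab.He.compC2.bal
    have h2 : gn .a ∈ centralizer ({x} : Set Spor.He) := mem_centralizer_singleton_iff.2 (hLa x (hEL hx)).symm
    have h3 : orderOf (⟨gn .a, h2⟩ : centralizer ({x} : Set Spor.He)) = 2 := by
      rw [Subgroup.orderOf_mk]
      exact orderOf_eq_prime (by rw [pow_two, gn_mul_self]) a_ne_one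
    have h4 := orderOf_dvd_natCard (⟨gn .a, h2⟩ : centralizer ({x} : Set Spor.He))
    rw [h3] at h4
    exact (Nat.not_even_iff_odd.2 h1) (even_iff_two_dvd.2 h4)

end HeRow

/-- **He** -/
theorem noBad_He {K : Type*} [Group K] [Finite K] (h : Spor.IsoHe K) : NoBad 3 K := by
  obtain ⟨e⟩ := h
  exact HeRow.noBad.congr e.symm

end Cfsg.Agent.H485.NB
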